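import Mathlib
import Cfsg.Agent.Lib.FischerMTypes.Eleven.Basic

/-!
Subgroups of prime order in a group whose order that prime divides once: counting facts.
-/

set_option autoImplicit false
set_option linter.style.haveILetI false
set_option linter.unusedSectionVars false

namespace Cfsg.Agent.Lib.FischerMTypes.PrimeOnce

open Cfsg.Agent.Lib.FischerMTypes.Eleven (mem_normalizer_of_conj conj_mem_of_mem_normalizer card_eq_orbit_mul)

variable {G : Type*} [Group G] [Finite G] {p : ℕ} [hp : Fact p.Prime]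

/-- `p` divides the order exactly once -/
def Once (p : ℕ) (G : Type*) [Group G] : Prop := p ∣ Nat.card G ∧ ¬ p ^ 2 ∣ Nat.card G

theorem once_of_eq {n m : ℕ} (h : Nat.card G = n) (hn : n = p * m) (hm : ¬ p ∣ m) : Once p G := by
  refine ⟨⟨m, by rw [h, hn]⟩, fun hd => hm ?_⟩
  rw [h, hn, pow_two] at hd
  exact (Nat.mul_dvd_mul_iff_left hp.out.pos).mp hd

theorem factorization_eq (h : Once p G) : (Nat.card G).factorization p = 1 := by
  have h0 : Nat.card G ≠ 0 := Nat.card_pos.ne'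
  have h1 := (hp.out.pow_dvd_iff_le_factorization (k := 1) h0).mp (by simpa using h.1)
  have h2 : ¬ 2 ≤ (Nat.card G).factorization p := fun hle =>
    h.2 ((hp.out.pow_dvd_iff_le_factorization (k := 2) h0).mpr hle)
  omega

theorem card_eq_pow (h : Once p G) {X : Subgroup G} (hX : Nat.card X = p) :
    Nat.card X = p ^ (Nat.card G).factorization p := by rw [factorization_eq h, hX, pow_one]

theorem exists_conj (h : Once p G) {X Y : Subgroup G} (hX : Nat.card X = p) (hY : Nat.card Y = p) :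
    ∃ g : G, X.map (MulAut.conj g).toMonoidHom = Y := by
  obtain ⟨g, hg⟩ := MulAction.exists_smul_eq G (Sylow.ofCard X (card_eq_pow h hX)) (Sylow.ofCard Y (card_eq_pow h hY))
  exact ⟨g, congrArg Sylow.toSubgroup hg⟩

theorem index_normalizer_mod (h : Once p G) {X : Subgroup G} (hX : Nat.card X = p) :
    (Subgroup.normalizer (X : Set G)).index % p = 1 := by
  let P := Sylow.ofCard X (card_eq_pow h hX)
  have h1 := card_sylow_modEq_one p G
  rw [Sylow.card_eq_index_normalizer P] at h1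
  rw [Nat.ModEq, Nat.mod_eq_of_lt hp.out.one_lt] at h1
  exact h1

/-- the normaliser is the centraliser times a divisor of `p - 1` -/
theorem exists_normalizer_mul {X : Subgroup G} (hX : Nat.card X = p) :
    ∃ k, k ∣ p - 1 ∧ Nat.card (Subgroup.normalizer (X : Set G)) =
      Nat.card (Subgroup.centralizer (X : Set G)) * k := by
  have hcyc : IsCyclic X := isCyclic_of_prime_card hX
  let f := Subgroup.normalizerMonoidHom X
  refine ⟨Nat.card f.range, ?_, ?_⟩
  · have := Subgroup.card_subgroup_dvd_card f.range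
    rwa [IsCyclic.card_mulAut, hX, Nat.totient_prime hp.out] at this
  · rw [Subgroup.card_eq_card_quotient_mul_card_subgroup f.ker,
      Nat.card_congr (QuotientGroup.quotientKerEquivRange f).toEquiv, Subgroup.normalizerMonoidHom_ker,
      Nat.card_congr (Subgroup.subgroupOfEquivOfLe (Subgroup.centralizer_le_normalizer (X : Set G))).toEquiv,
      mul_comm]

theorem le_centralizer_self {X : Subgroup G} (hX : Nat.card X = p) :
    X ≤ Subgroup.centralizer (X : Set G) := by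
  have hc : IsCyclic X := isCyclic_of_prime_card hX
  let := hc.commGroup
  intro x hx
  rw [Subgroup.mem_centralizer_iff]
  exact fun y hy => congrArg Subtype.val (mul_comm (⟨y, hy⟩ : X) ⟨x, hx⟩)

theorem exists_gen {X : Subgroup G} (hX : Nat.card X = p) : ∃ x, orderOf x = p ∧ X = Subgroup.zpowers x := by
  obtain ⟨x, hx⟩ := exists_prime_orderOf_dvd_card' (G := X) p (by rw [hX])
  rw [← Subgroup.orderOf_coe] at hx
  exact ⟨x, hx, (Subgroup.eq_of_le_of_card_ge (Subgroup.zpowers_le.mpr x.2)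
    (by rw [Nat.card_zpowers, hx, hX])).symm⟩

theorem centralizer_zpowers (x : G) :
    Subgroup.centralizer (Subgroup.zpowers x : Set G) = Subgroup.centralizer ({x} : Set G) := by
  rw [Subgroup.zpowers_eq_closure, Subgroup.centralizer_closure]

theorem card_dvd_centralizer {X : Subgroup G} (hX : Nat.card X = p) :
    p ∣ Nat.card (Subgroup.centralizer (X : Set G)) := by
  have := Subgroup.card_dvd_of_le (le_centralizer_self hX)
  rwa [hX] at this

theorem once_subgroup (h : Once p G) {H : Subgroup G} (hH : p ∣ Nat.card H) : Once p H :=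
  ⟨hH, fun hd => h.2 (hd.trans (Subgroup.card_subgroup_dvd_card H))⟩

/-- normalisers inside a subgroup -/
theorem normalizer_subgroupOf {H X : Subgroup G} (hXH : X ≤ H) :
    Subgroup.normalizer ((X.subgroupOf H : Subgroup H) : Set H) =
      (Subgroup.normalizer (X : Set G)).subgroupOf H := by
  ext h
  rw [Subgroup.mem_subgroupOf]
  constructor
  · intro hh
    refine mem_normalizer_of_conj fun x hx => ?_
    exact conj_mem_of_mem_normalizer hh ⟨x, hXH hx⟩ hx
  · intro hh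
    exact mem_normalizer_of_conj fun x hx => conj_mem_of_mem_normalizer hh _ hx

theorem card_normalizer_subgroupOf {H X : Subgroup G} (hXH : X ≤ H) :
    Nat.card (Subgroup.normalizer ((X.subgroupOf H : Subgroup H) : Set H)) =
      Nat.card (Subgroup.normalizer (X : Set G) ⊓ H : Subgroup G) := by
  rw [normalizer_subgroupOf hXH, ← Subgroup.inf_subgroupOf_right,
    Nat.card_congr (Subgroup.subgroupOfEquivOfLe inf_le_right).toEquiv]

/-- the order of a normaliser inside a subgroup satisfies the Sylow congruence -/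
theorem exists_index' {H X : Subgroup G} (hH : Once p H) (hX : Nat.card X = p) (hXH : X ≤ H) :
    ∃ i, i % p = 1 ∧ Nat.card (Subgroup.normalizer (X : Set G) ⊓ H : Subgroup G) * i = Nat.card H := by
  have hX' : Nat.card (X.subgroupOf H) = p := by
    rw [Nat.card_congr (Subgroup.subgroupOfEquivOfLe hXH).toEquiv, hX]
  exact ⟨_, index_normalizer_mod hH hX', by
    rw [← card_normalizer_subgroupOf hXH]; exact Subgroup.card_mul_index _⟩

theorem exists_index (h : Once p G) {H X : Subgroup G} (hX : Nat.card X = p) (hXH : X ≤ H) :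
    ∃ i, i % p = 1 ∧ Nat.card (Subgroup.normalizer (X : Set G) ⊓ H : Subgroup G) * i = Nat.card H :=
  exists_index' (once_subgroup h (hX ▸ Subgroup.card_dvd_of_le hXH)) hX hXH

/-- the points of an orbit fixed by `X` form an orbit of its normaliser -/
theorem exists_normalizer_move' {H X : Subgroup G} (hX : Nat.card X = p) {x y : G}
    (hK : Once p (H ⊓ Subgroup.centralizer ({y} : Set G) : Subgroup G))
    (hXx : X ≤ H ⊓ Subgroup.centralizer ({x} : Set G)) (hXy : X ≤ H ⊓ Subgroup.centralizer ({y} : Set G))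
    {g : G} (hg : g ∈ H) (hgxy : g * x * g⁻¹ = y) :
    ∃ n ∈ Subgroup.normalizer (X : Set G) ⊓ H, n * x * n⁻¹ = y := by
  set K := H ⊓ Subgroup.centralizer ({y} : Set G)
  set Y := X.map (MulAut.conj g).toMonoidHom
  have hY : Nat.card Y = p := by
    rw [← Nat.card_congr (Subgroup.equivMapOfInjective X _ (MulAut.conj g).injective).toEquiv, hX]
  have hYK : Y ≤ K := by
    rintro _ ⟨u, hu, rfl⟩
    obtain ⟨hu1, hu2⟩ := Subgroup.mem_inf.mp (hXx hu)
    refine Subgroup.mem_inf.mpr ⟨H.mul_mem (H.mul_mem hg hu1) (H.inv_mem hg), ?_⟩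
    rw [Subgroup.mem_centralizer_singleton_iff, ← hgxy]
    show g * u * g⁻¹ * (g * x * g⁻¹) = g * x * g⁻¹ * (g * u * g⁻¹)
    calc g * u * g⁻¹ * (g * x * g⁻¹) = g * (u * x) * g⁻¹ := by group
      _ = g * (x * u) * g⁻¹ := by rw [Subgroup.mem_centralizer_singleton_iff.mp hu2]
      _ = g * x * g⁻¹ * (g * u * g⁻¹) := by group
  obtain ⟨k, hk⟩ := exists_conj hK (X := Y.subgroupOf K) (Y := X.subgroupOf K)
    (by rw [Nat.card_congr (Subgroup.subgroupOfEquivOfLe hYK).toEquiv, hY])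
    (by rw [Nat.card_congr (Subgroup.subgroupOfEquivOfLe hXy).toEquiv, hX])
  obtain ⟨hkH, hky⟩ := Subgroup.mem_inf.mp k.2
  refine ⟨k.1 * g, Subgroup.mem_inf.mpr ⟨mem_normalizer_of_conj fun u hu => ?_, H.mul_mem hkH hg⟩, ?_⟩
  · have hm : (MulAut.conj k) (⟨g * u * g⁻¹, hYK ⟨u, hu, rfl⟩⟩ : K) ∈ X.subgroupOf K := by
      rw [← hk]
      exact ⟨_, (show (⟨g * u * g⁻¹, hYK ⟨u, hu, rfl⟩⟩ : K) ∈ Y.subgroupOf K from ⟨u, hu, rfl⟩), rfl⟩
    have hm' : k.1 * (g * u * g⁻¹) * k.1⁻¹ ∈ X := hm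
    rw [show k.1 * g * u * (k.1 * g)⁻¹ = k.1 * (g * u * g⁻¹) * k.1⁻¹ by group]
    exact hm'
  · rw [show k.1 * g * x * (k.1 * g)⁻¹ = k.1 * (g * x * g⁻¹) * k.1⁻¹ by group, hgxy,
      Subgroup.mem_centralizer_singleton_iff.mp hky, mul_inv_cancel_right]

/-- fixed points of `X` in a transitive orbit -/
theorem ncard_fixed_mul' {H X : Subgroup G} (hX : Nat.card X = p) (hXH : X ≤ H)
    {O : Set G} (hin : ∀ g ∈ H, ∀ y ∈ O, g * y * g⁻¹ ∈ O)
    (htr : ∀ x ∈ O, ∀ y ∈ O, ∃ g ∈ H, g * x * g⁻¹ = y) {x : G} (hx : x ∈ O)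
    (hXx : x ∈ Subgroup.centralizer (X : Set G))
    (hK : ∀ y ∈ O, y ∈ Subgroup.centralizer (X : Set G) →
      Once p (H ⊓ Subgroup.centralizer ({y} : Set G) : Subgroup G)) :
    Nat.card (Subgroup.normalizer (X : Set G) ⊓ H : Subgroup G) =
      {y | y ∈ O ∧ y ∈ Subgroup.centralizer (X : Set G)}.ncard *
        Nat.card (Subgroup.normalizer (X : Set G) ⊓ H ⊓ Subgroup.centralizer ({x} : Set G) : Subgroup G) := by
  refine card_eq_orbit_mul (fun n hn => ?_) (fun y hy => ?_)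
  · obtain ⟨hn1, hn2⟩ := Subgroup.mem_inf.mp hn
    refine ⟨hin n hn2 x hx, ?_⟩
    rw [Subgroup.mem_centralizer_iff]
    intro u hu
    have h1 := Subgroup.mem_centralizer_iff.mp hXx (n⁻¹ * u * n⁻¹⁻¹)
      (conj_mem_of_mem_normalizer (inv_mem hn1) u hu)
    rw [inv_inv] at h1
    calc u * (n * x * n⁻¹) = n * ((n⁻¹ * u * n) * x) * n⁻¹ := by group
      _ = n * (x * (n⁻¹ * u * n)) * n⁻¹ := by rw [h1]
      _ = n * x * n⁻¹ * u := by group
  · obtain ⟨g, hg, hgxy⟩ := htr x hx y hy.1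
    have hle : ∀ z : G, z ∈ Subgroup.centralizer (X : Set G) →
        X ≤ H ⊓ Subgroup.centralizer ({z} : Set G) := fun z hz u hu => Subgroup.mem_inf.mpr
      ⟨hXH hu, Subgroup.mem_centralizer_singleton_iff.mpr (Subgroup.mem_centralizer_iff.mp hz u hu)⟩
    exact exists_normalizer_move' hX (hK y hy.1 hy.2) (hle x hXx) (hle y hy.2) hg hgxy

theorem ncard_fixed_mul (h : Once p G) {H X : Subgroup G} (hX : Nat.card X = p) (hXH : X ≤ H)
    {O : Set G} (hin : ∀ g ∈ H, ∀ y ∈ O, g * y * g⁻¹ ∈ O)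
    (htr : ∀ x ∈ O, ∀ y ∈ O, ∃ g ∈ H, g * x * g⁻¹ = y) {x : G} (hx : x ∈ O)
    (hXx : x ∈ Subgroup.centralizer (X : Set G)) :
    Nat.card (Subgroup.normalizer (X : Set G) ⊓ H : Subgroup G) =
      {y | y ∈ O ∧ y ∈ Subgroup.centralizer (X : Set G)}.ncard *
        Nat.card (Subgroup.normalizer (X : Set G) ⊓ H ⊓ Subgroup.centralizer ({x} : Set G) : Subgroup G) :=
  ncard_fixed_mul' hX hXH hin htr hx hXx fun y _ hy => once_subgroup h (hX ▸ Subgroup.card_dvd_of_le
    (fun u hu => Subgroup.mem_inf.mpr ⟨hXH hu,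
      Subgroup.mem_centralizer_singleton_iff.mpr (Subgroup.mem_centralizer_iff.mp hy u hu)⟩))

/-- a transitive orbit whose stabiliser has order divisible by `p` has a fixed point -/
theorem exists_fixed (h : Once p G) {H X : Subgroup G} (hX : Nat.card X = p) (hXH : X ≤ H) {O : Set G}
    (hne : O.Nonempty) (hin : ∀ g ∈ H, ∀ y ∈ O, g * y * g⁻¹ ∈ O)
    (htr : ∀ x ∈ O, ∀ y ∈ O, ∃ g ∈ H, g * x * g⁻¹ = y) (hO : ¬ p ∣ O.ncard) :
    ∃ y ∈ O, y ∈ Subgroup.centralizer (X : Set G) := by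
  obtain ⟨x, hx⟩ := hne
  have hcard := card_eq_orbit_mul (H := H) (O := O) (x := x) (fun g hg => hin g hg x hx) (htr x hx)
  set S := H ⊓ Subgroup.centralizer ({x} : Set G)
  have hpS : p ∣ Nat.card S :=
    ((Nat.Prime.dvd_mul hp.out).mp (hcard ▸ hX ▸ Subgroup.card_dvd_of_le hXH)).resolve_left hO
  obtain ⟨s, hs⟩ := exists_prime_orderOf_dvd_card' (G := S) p hpS
  rw [← Subgroup.orderOf_coe] at hs
  obtain ⟨hsH, hsx⟩ := Subgroup.mem_inf.mp s.2
  have hle : Subgroup.zpowers (s : G) ≤ H := Subgroup.zpowers_le.mpr hsH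
  obtain ⟨g, hg⟩ := exists_conj (once_subgroup h (hX ▸ Subgroup.card_dvd_of_le hXH))
    (X := (Subgroup.zpowers (s : G)).subgroupOf H) (Y := X.subgroupOf H)
    (by rw [Nat.card_congr (Subgroup.subgroupOfEquivOfLe hle).toEquiv, Nat.card_zpowers, hs])
    (by rw [Nat.card_congr (Subgroup.subgroupOfEquivOfLe hXH).toEquiv, hX])
  refine ⟨g.1 * x * g.1⁻¹, hin _ g.2 x hx, ?_⟩
  rw [Subgroup.mem_centralizer_iff]
  intro u hu
  have hm : (⟨u, hXH hu⟩ : H) ∈ X.subgroupOf H := hu
  rw [← hg] at hm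
  obtain ⟨v, hv, hvu⟩ := hm
  have hv' : (v : G) * x = x * (v : G) := by
    obtain ⟨n, hn⟩ := Subgroup.mem_zpowers_iff.mp (show (v : G) ∈ Subgroup.zpowers (s : G) from hv)
    rw [← hn]
    exact ((show Commute (s : G) x from Subgroup.mem_centralizer_singleton_iff.mp hsx).zpow_left n).eq
  have hu' : g.1 * (v : G) * g.1⁻¹ = u := congrArg Subtype.val hvu
  rw [← hu']
  calc g.1 * (v : G) * g.1⁻¹ * (g.1 * x * g.1⁻¹) = g.1 * ((v : G) * x) * g.1⁻¹ := by group
    _ = g.1 * (x * (v : G)) * g.1⁻¹ := by rw [hv']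
    _ = g.1 * x * g.1⁻¹ * (g.1 * (v : G) * g.1⁻¹) := by group

end Cfsg.Agent.Lib.FischerMTypes.PrimeOnce
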