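import Mathlib
import Cfsg.Agent.Lib.Spectrum.CoxeterSym
import Cfsg.Agent.Lib.FischerMTypes.Basic

/-!
A closed set of 3-transpositions containing a chain and no larger than the class of transpositions of
the symmetric group generates the symmetric group.
-/

set_option autoImplicit false
set_option linter.style.haveILetI false
set_option linter.unusedSectionVars false

namespace Cfsg.Agent.Lib.FischerMTypes.SymChain

open Cfsg.Agent.Lib.Spectrum.CoxeterSym

variable {G : Type*} [Group G]

/-- the chain relations -/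
structure Chain (D : Set G) (n : ℕ) (s : ℕ → G) : Prop where
  mem : ∀ i, i < n → s i ∈ D
  adjacent : ∀ i, i + 1 < n → ¬ Commute (s i) (s (i + 1))
  far : ∀ i j, i + 2 ≤ j → j < n → Commute (s i) (s j)

theorem symRel {D : Set G} (hD : Cfsg.IsThreeTranspositionSet D) {n : ℕ} {s : ℕ → G} (h : Chain D n s) :
    SymRel n s :=
  ⟨fun i hi => Basic.mul_self hD (h.mem i hi),
    fun i hi => Basic.braid hD (h.mem i (by omega)) (h.mem (i + 1) hi) (h.adjacent i hi),
    fun i j hij hj => (h.far i j hij hj).eq⟩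

theorem closure_swaps (n : ℕ) :
    Subgroup.closure (Set.range fun i : Fin n => Equiv.swap i.castSucc i.succ) = ⊤ := by
  rw [eq_top_iff]
  intro σ _
  have h := Equiv.Perm.mclosure_swap_castSucc_succ n
  have hle : Submonoid.closure (Set.range fun i : Fin n => Equiv.swap i.castSucc i.succ) ≤
      (Subgroup.closure (Set.range fun i : Fin n => Equiv.swap i.castSucc i.succ)).toSubmonoid :=
    Submonoid.closure_le.mpr Subgroup.subset_closure
  exact hle (h ▸ Submonoid.mem_top σ)

/-- the centre of the symmetric group is trivial -/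
theorem eq_one_of_central {n : ℕ} (hn : 3 ≤ n) {k : Equiv.Perm (Fin n)}
    (hcen : k ∈ Subgroup.center (Equiv.Perm (Fin n))) : k = 1 := by
  refine Equiv.ext fun x => ?_
  by_contra hne'
  obtain ⟨z, hz⟩ : ∃ z, z ∉ ({x, k x} : Finset (Fin n)) := by
    by_contra hcon
    push Not at hcon
    have h := Finset.card_le_card (show (Finset.univ : Finset (Fin n)) ⊆ {x, k x} from fun z _ => hcon z)
    rw [Finset.card_univ, Fintype.card_fin] at h
    exact absurd (h.trans Finset.card_le_two) (by omega)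
  simp only [Finset.mem_insert, Finset.mem_singleton, not_or] at hz
  have h := congrArg (fun σ : Equiv.Perm (Fin n) => σ x) (Subgroup.mem_center_iff.mp hcen (Equiv.swap x z))
  simp only [Equiv.Perm.mul_apply, Equiv.swap_apply_left] at h
  rw [Equiv.swap_apply_of_ne_of_ne (a := x) (by simpa using hne') (Ne.symm hz.2)] at h
  exact hz.1 (k.injective h).symm

/-- a homomorphism of the symmetric group not killing a three-cycle is injective -/
theorem injective_of_not_killed {n : ℕ} (hn : 5 ≤ n) (φ : Equiv.Perm (Fin n) →* G) {c : Equiv.Perm (Fin n)}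
    (hc : c ∈ alternatingGroup (Fin n)) (hne : φ c ≠ 1) : Function.Injective φ := by
  have : IsSimpleGroup (alternatingGroup (Fin n)) :=
    alternatingGroup.isSimpleGroup (by rw [Nat.card_eq_fintype_card, Fintype.card_fin]; exact hn)
  have hK : φ.ker ⊓ alternatingGroup (Fin n) = ⊥ := by
    have hnorm : (φ.ker.subgroupOf (alternatingGroup (Fin n))).Normal := inferInstance
    rcases hnorm.eq_bot_or_eq_top with h | h
    · rwa [Subgroup.subgroupOf_eq_bot, disjoint_iff] at h
    · exact absurd ((Subgroup.subgroupOf_eq_top.mp h) hc) hne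
  rw [← MonoidHom.ker_eq_bot_iff, Subgroup.eq_bot_iff_forall]
  intro k hk
  have hcen : k ∈ Subgroup.center (Equiv.Perm (Fin n)) := by
    rw [Subgroup.mem_center_iff]
    intro g
    have hk1 : φ k = 1 := hk
    have hmem : g * k * g⁻¹ * k⁻¹ ∈ φ.ker ⊓ alternatingGroup (Fin n) := by
      refine Subgroup.mem_inf.mpr ⟨?_, ?_⟩
      · rw [MonoidHom.mem_ker]; simp [hk1]
      · rw [Equiv.Perm.mem_alternatingGroup]
        simp [mul_comm, mul_left_comm]
    rw [hK, Subgroup.mem_bot, mul_inv_eq_one, mul_inv_eq_iff_eq_mul] at hmem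
    exact hmem
  exact eq_one_of_central (by omega) hcen

/-- the group generated by a closed set with a chain -/
theorem exists_iso [Finite G] {D : Set G} (hD : Cfsg.IsThreeTranspositionSet D) {n : ℕ} (hn : 4 ≤ n)
    {T : Set G} {s : ℕ → G} (h : Chain D n s) (hs : ∀ i, i < n → s i ∈ T)
    (hT : ∀ g ∈ Subgroup.closure T, ∀ y ∈ T, g * y * g⁻¹ ∈ T)
    (hcard : T.ncard ≤ Nat.card {σ : Equiv.Perm (Fin (n + 1)) // σ.IsSwap}) :
    Nonempty (↥(Subgroup.closure T) ≃* Equiv.Perm (Fin (n + 1))) ∧
      Subgroup.closure T = Subgroup.closure (s '' Set.Iio n) := by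
  obtain ⟨φ, hφ, hrange⟩ := exists_lift (symRel hD h)
  have hgen : gen s n ≤ Subgroup.closure T := Subgroup.closure_mono (by rintro _ ⟨i, hi, rfl⟩; exact hs i hi)
  let i0 : Fin n := ⟨0, by omega⟩
  let i1 : Fin n := ⟨1, by omega⟩
  have hinj : Function.Injective φ := by
    refine injective_of_not_killed (by omega) φ
      (c := Equiv.swap i0.castSucc i0.succ * Equiv.swap i1.castSucc i1.succ) ?_ ?_
    · rw [Equiv.Perm.mem_alternatingGroup, map_mul,
        Equiv.Perm.sign_swap (Fin.castSucc_lt_succ (i := i0)).ne,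
        Equiv.Perm.sign_swap (Fin.castSucc_lt_succ (i := i1)).ne]
      rfl
    · rw [map_mul, hφ, hφ]
      intro he
      refine h.adjacent 0 (by omega) ?_
      have e : s 0 = (s 1)⁻¹ := eq_inv_of_mul_eq_one_left he
      rw [e]
      exact (Commute.refl (s 1)).inv_left
  have hswap : ∀ σ : Equiv.Perm (Fin (n + 1)), σ.IsSwap → φ σ ∈ T := by
    intro σ hσ
    obtain ⟨x, y, hxy, rfl⟩ := hσ
    have hne0 := (Fin.castSucc_lt_succ (i := i0)).ne
    obtain ⟨τ, hτ⟩ : ∃ τ : Equiv.Perm (Fin (n + 1)),
        τ * Equiv.swap i0.castSucc i0.succ * τ⁻¹ = Equiv.swap x y := by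
      obtain ⟨τ, hτ⟩ := isConj_iff.mp (Equiv.Perm.isConj_swap hne0 hxy)
      exact ⟨τ, hτ⟩
    rw [← hτ, map_mul, map_mul, map_inv, hφ]
    exact hT _ (hgen (hrange ▸ ⟨τ, rfl⟩)) _ (hs 0 (by omega))
  let f : {σ : Equiv.Perm (Fin (n + 1)) // σ.IsSwap} → T := fun σ => ⟨φ σ.1, hswap σ.1 σ.2⟩
  have hf : Function.Injective f := fun a b he => Subtype.ext (hinj (congrArg Subtype.val he))
  have hsurj : Function.Surjective f := by
    refine ((Nat.bijective_iff_injective_and_card f).mpr ⟨hf, ?_⟩).2
    refine le_antisymm (Nat.card_le_card_of_injective f hf) ?_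
    rwa [Nat.card_coe_set_eq]
  have heq : Subgroup.closure T = gen s n := by
    refine le_antisymm ((Subgroup.closure_le _).mpr fun t ht => ?_) hgen
    obtain ⟨σ, hσ⟩ := hsurj ⟨t, ht⟩
    rw [← hrange]
    exact ⟨σ.1, congrArg Subtype.val hσ⟩
  refine ⟨⟨?_⟩, heq⟩
  exact (MulEquiv.subgroupCongr (heq.trans hrange.symm)).trans (MonoidHom.ofInjective hinj).symm

end Cfsg.Agent.Lib.FischerMTypes.SymChain
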