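import Mathlib
import Cfsg.Agent.Lib.FischerMTypes.Eleven.Step
import Cfsg.Agent.Lib.FischerMTypes.Prime.Basic

/-!
Subgroups of odd prime order in the centraliser of a transposition and their images one level down.
-/

set_option autoImplicit false
set_option linter.style.haveILetI false
set_option linter.unusedSectionVars false

namespace Cfsg.Agent.Lib.FischerMTypes.PrimeOnce

open Cfsg.Agent.Lib.FischerMTypes.Basic Cfsg.Agent.Lib.FischerMTypes.Primitive
open Cfsg.Agent.Lib.FischerMTypes.Eleven (Down mem_cent_perp mem_cent_self mem_normalizer_of_conj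
  conj_mem_of_mem_normalizer card_comap)

variable {G : Type*} [Group G] [Finite G] {Q : Type*} [Group Q] [Finite Q] {D : Set G} {E : Set Q}
  {a : G} (M : Down D a E) {p : ℕ} [hp : Fact p.Prime] (hodd : Odd p)

/-- the image of a subgroup -/
abbrev img (X : Subgroup G) : Subgroup Q :=
  (X.subgroupOf (Subgroup.centralizer ({a} : Set G))).map M.π

include M hodd in
/-- two elements of order dividing `p` with the same image agree -/
theorem eq_of_image {u v : Subgroup.centralizer ({a} : Set G)} (hu : u ^ p = 1) (hv : v ^ p = 1)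
    (h : M.π u = M.π v) : u = v := by
  set z := v⁻¹ * u
  have hz : z ∈ M.π.ker := by rw [MonoidHom.mem_ker, map_mul, map_inv, h, inv_mul_cancel]
  have hz2 : z ^ 2 = 1 := by
    have : (⟨z, hz⟩ : M.π.ker) ^ 2 = 1 := by rw [← M.card_ker]; exact pow_card_eq_one'
    exact congrArg Subtype.val this
  have hc : Commute v z := by
    rw [M.ker, Subgroup.mem_subgroupOf] at hz
    obtain ⟨n, hn⟩ := Subgroup.mem_zpowers_iff.mp hz
    refine Subtype.ext ?_
    show (v : G) * (z : G) = (z : G) * (v : G)
    rw [← hn]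
    exact (Commute.zpow_right (Subgroup.mem_centralizer_singleton_iff.mp v.2 : Commute (v : G) a) n).eq
  have hzp : z ^ p = 1 := by
    have e : u = v * z := by simp [z]
    rw [e, hc.mul_pow, hv, one_mul] at hu
    exact hu
  have hz1 : z = 1 := by
    obtain ⟨j, hj⟩ := hodd
    rw [hj, pow_succ, pow_mul, hz2, one_pow, one_mul] at hzp
    exact hzp
  exact (inv_mul_eq_one.mp hz1).symm

variable {X : Subgroup G} (hX : Nat.card X = p) (hXH : X ≤ Subgroup.centralizer ({a} : Set G))

include hX in
theorem pow_prime {u : Subgroup.centralizer ({a} : Set G)} (hu : (u : G) ∈ X) : u ^ p = 1 := by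
  refine Subtype.ext ?_
  have : (⟨(u : G), hu⟩ : X) ^ p = 1 := by rw [← hX]; exact pow_card_eq_one'
  simpa using congrArg Subtype.val this

include M hodd hX hXH in
theorem card_img : Nat.card (img M X) = p := by
  let f : X → img M X := fun x => ⟨M.π ⟨x.1, hXH x.2⟩, ⟨_, x.2, rfl⟩⟩
  have hf : Function.Bijective f := by
    constructor
    · intro x y h
      have e : (⟨x.1, hXH x.2⟩ : Subgroup.centralizer ({a} : Set G)) = ⟨y.1, hXH y.2⟩ :=
        eq_of_image M hodd (pow_prime hX x.2) (pow_prime hX y.2) (congrArg Subtype.val h)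
      exact Subtype.ext (congrArg (fun t : Subgroup.centralizer ({a} : Set G) => (t : G)) e)
    · rintro ⟨_, u, hu, rfl⟩
      exact ⟨⟨u.1, hu⟩, rfl⟩
  rw [← Nat.card_eq_of_bijective f hf, hX]

include M hodd hX hXH in
theorem mem_cen_iff (h : Subgroup.centralizer ({a} : Set G)) :
    (h : G) ∈ Subgroup.centralizer (X : Set G) ↔ M.π h ∈ Subgroup.centralizer (img M X : Set Q) := by
  simp only [Subgroup.mem_centralizer_iff, SetLike.mem_coe]
  constructor
  · rintro hh _ ⟨u, hu, rfl⟩
    rw [← map_mul, ← map_mul]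
    exact congrArg _ (Subtype.ext (hh u.1 hu))
  · intro hh x hx
    have h1 := hh _ ⟨⟨x, hXH hx⟩, hx, rfl⟩
    have e := eq_of_image M hodd (u := h * ⟨x, hXH hx⟩ * h⁻¹) (v := ⟨x, hXH hx⟩)
      (by rw [conj_pow, pow_prime hX hx]; simp) (pow_prime hX hx)
      (by rw [map_mul, map_mul, map_inv, ← h1, mul_inv_cancel_right])
    exact (mul_inv_eq_iff_eq_mul.mp (congrArg Subtype.val e)).symm

include M hodd hX hXH in
theorem mem_nor_iff (h : Subgroup.centralizer ({a} : Set G)) :
    (h : G) ∈ Subgroup.normalizer (X : Set G) ↔ M.π h ∈ Subgroup.normalizer (img M X : Set Q) := by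
  constructor
  · intro hh
    refine mem_normalizer_of_conj ?_
    rintro _ ⟨u, hu, rfl⟩
    exact ⟨h * u * h⁻¹, conj_mem_of_mem_normalizer hh _ hu, by simp⟩
  · intro hh
    refine mem_normalizer_of_conj fun x hx => ?_
    obtain ⟨u, hu, he⟩ := conj_mem_of_mem_normalizer hh _ ⟨⟨x, hXH hx⟩, hx, rfl⟩
    have e := eq_of_image M hodd (u := h * ⟨x, hXH hx⟩ * h⁻¹) (v := u)
      (by rw [conj_pow, pow_prime hX hx]; simp) (pow_prime hX hu)
      (by rw [map_mul, map_mul, map_inv, he])
    have e' : (h : G) * x * (h : G)⁻¹ = (u : G) := congrArg Subtype.val e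
    rw [e']
    exact hu

include M in
/-- a subgroup of the centraliser given by its image has twice the order of the image -/
theorem card_preimage {A : Subgroup G} {B : Subgroup Q} (hA : A ≤ Subgroup.centralizer ({a} : Set G))
    (hAB : ∀ h : Subgroup.centralizer ({a} : Set G), (h : G) ∈ A ↔ M.π h ∈ B) :
    Nat.card A = 2 * Nat.card B := by
  have e : A.subgroupOf (Subgroup.centralizer ({a} : Set G)) = B.comap M.π := by
    ext h
    rw [Subgroup.mem_subgroupOf, Subgroup.mem_comap]
    exact hAB h
  rw [← Nat.card_congr (Subgroup.subgroupOfEquivOfLe hA).toEquiv, e, card_comap M.surj, M.card_ker]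

include M hodd hX hXH in
theorem card_normalizer_inf :
    Nat.card (Subgroup.normalizer (X : Set G) ⊓ Subgroup.centralizer ({a} : Set G) : Subgroup G) =
      2 * Nat.card (Subgroup.normalizer (img M X : Set Q)) :=
  card_preimage M inf_le_right fun h =>
    ⟨fun hh => (mem_nor_iff M hodd hX hXH h).mp (Subgroup.mem_inf.mp hh).1,
      fun hh => Subgroup.mem_inf.mpr ⟨(mem_nor_iff M hodd hX hXH h).mpr hh, h.2⟩⟩

include M hodd hX hXH in
theorem card_centralizer_inf :
    Nat.card (Subgroup.centralizer (X : Set G) ⊓ Subgroup.centralizer ({a} : Set G) : Subgroup G) =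
      2 * Nat.card (Subgroup.centralizer (img M X : Set Q)) :=
  card_preimage M inf_le_right fun h =>
    ⟨fun hh => (mem_cen_iff M hodd hX hXH h).mp (Subgroup.mem_inf.mp hh).1,
      fun hh => Subgroup.mem_inf.mpr ⟨(mem_cen_iff M hodd hX hXH h).mpr hh, h.2⟩⟩

end Cfsg.Agent.Lib.FischerMTypes.PrimeOnce
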