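import Mathlib
import Cfsg.Agent.Lib.FischerMTypes.Eleven.Levels

/-!
The one-step-down data at every transposition for types M(22) and the step from it.
-/

set_option autoImplicit false
set_option linter.style.haveILetI false
set_option linter.unusedSectionVars false

namespace Cfsg.Agent.Lib.FischerMTypes.PrimeOnce

open Cfsg.Agent.Lib.FischerMTypes.Basic Cfsg.Agent.Lib.FischerMTypes.Primitive
  Cfsg.Agent.Lib.FischerMTypes.Levels Cfsg.Agent.Lib.FischerMTypes.Types
  Cfsg.Agent.Lib.FischerMTypes.PointModel Cfsg.Agent.Lib.FischerMTypes.TraceCounts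
open Cfsg.Agent.Lib.FischerMTypes.Eleven (Down downOf)

universe u

variable {G : Type u} [Group G] [Finite G] {D : Set G}

/-- the central quotient at `a` -/
abbrev QuotAt (D : Set G) (a : G) : Type u :=
  ↥(Subgroup.closure (perp D a)) ⧸ Subgroup.center ↥(Subgroup.closure (perp D a))

/-- its distinguished set -/
abbrev setAt (D : Set G) (a : G) : Set (QuotAt D a) := QuotientGroup.mk '' {x | (x : G) ∈ perp D a}

/-- type M(22): all centralisers of transpositions map onto one central quotient -/
theorem down_M22 {F : Type} [Field F] [Fintype F] (S : Sys D F) {a b : G} (ha : a ∈ D) (hb : b ∈ D) :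
    Nonempty (Down D b (setAt D a)) := by
  obtain ⟨g, rfl⟩ := S.hprim.1 a ha b hb
  obtain ⟨L⟩ := M23Data.loc_conj S.hD
    (E := setAt D a) (d := a)
    (⟨QuotientGroup.mk' _, QuotientGroup.mk'_surjective _, QuotientGroup.ker_mk' _, rfl⟩) g
  refine ⟨downOf S.hD (S.ctx a ha).hsub hb (StabilizerM22.centralizer_eq S hb)
    (StabilizerM22.center_eq S hb) L.π L.surj L.ker L.img
    (fun x hx hbx y hy hby => (RankM22.rankData S).trans_far _ hb x hx hbx y hy hby) ?_⟩
  have h := (RankM22.rankData S).ncard_off hb
  omega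

variable {Q : Type*} [Group Q] [Finite Q] {E : Set Q} {N A k n T n₁ : ℕ}

/-- one step up -/
theorem down_step (S : Step.StepData D E N A k n T) (P : Step.Pinned D N A k n n₁) {f : ℕ}
    (hF : n₁ * f + N * (1 + A) = N * N) (hf : 11 ∣ f) {b : G} (hb : b ∈ D) : Nonempty (Down D b E) :=
  ⟨downOf S.hD S.hsub hb (Step.StepData.centralizer_eq S P hb) (S.center_eq P.small hb)
    (S.loc b hb).π (S.loc b hb).surj (S.loc b hb).ker (S.loc b hb).img
    (fun x hx hbx y hy hby => Step.StepData.trans_far S P hb hx hbx hy hby)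
    (by rw [Step.StepData.ncard_far S P hb hF]; exact hf)⟩

end Cfsg.Agent.Lib.FischerMTypes.PrimeOnce
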